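import Mathlib

/-!
# Arithmetic for maximal subgroups containing the centraliser of an involution

* `ratio_ge_three`: the equation of the signed degrees with `d ≥ 3e` leaves only `a = -15`, `d = 3e`.
* `index_ratio`: an odd index leaves only `a = -15`, `A = 3B` and `a = 9`, `A = B`.
-/

set_option autoImplicit false

namespace Cfsg.Agent.GW.BigCentral

/-- A square times a non-square is no square. -/
theorem eq_zero_of_sq_mul {n : ℕ} (hn : ¬ IsSquare n) {x y : ℤ} (h : (n : ℤ) * x ^ 2 = y ^ 2) :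
    x = 0 := by
  by_contra hx
  have hd : x ^ 2 ∣ y ^ 2 := ⟨(n : ℤ), by rw [← h]; ring⟩
  obtain ⟨k, hk⟩ := (Int.pow_dvd_pow_iff two_ne_zero).1 hd
  have h2 : (n : ℤ) = k ^ 2 := by
    apply mul_right_cancel₀ (pow_ne_zero 2 hx)
    rw [h, hk]; ring
  exact hn ⟨k.natAbs, by
    have h3 := congrArg Int.natAbs h2
    rw [Int.natAbs_natCast, Int.natAbs_pow, pow_two] at h3
    exact h3⟩

theorem not_isSquare_of_between {n m : ℕ} (h1 : m * m < n) (h2 : n < (m + 1) * (m + 1)) :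
    ¬ IsSquare n := by
  rintro ⟨k, rfl⟩
  rcases le_or_gt k m with h | h
  · exact absurd (Nat.mul_le_mul h h) (by omega)
  · have := Nat.mul_le_mul (show m + 1 ≤ k from h) (show m + 1 ≤ k from h)
    omega

/-- The equation of the signed degrees in Gorenstein-Walter's form. -/
theorem degree_eq {a b c d e : ℤ} (hs : b + c = a + 1)
    (he : 4 * (d * e) * (b * c) * (a - 1) ^ 2 = (d + e) ^ 2 * ((b - 1) * (c - 1)) * (a + 1) ^ 2) :
    a * (d + e) ^ 2 * (b - c) ^ 2 = b * c * (a - 1) ^ 2 * (d - e) ^ 2 := by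
  obtain rfl : c = a + 1 - b := by linarith
  linear_combination he

/-- Equal odd parts give equal degrees. -/
theorem degrees_eq_of_eq {a b c d : ℤ} (hd : 0 < d) (ha : a ≠ 0) (hs : b + c = a + 1)
    (he : 4 * (d * d) * (b * c) * (a - 1) ^ 2 = (d + d) ^ 2 * ((b - 1) * (c - 1)) * (a + 1) ^ 2) :
    b = c := by
  have h := degree_eq hs he
  rw [sub_self, zero_pow two_ne_zero, mul_zero] at h
  rcases mul_eq_zero.1 h with h | h
  · rcases mul_eq_zero.1 h with h | h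
    · exact absurd h ha
    · exact absurd (pow_eq_zero_iff two_ne_zero |>.1 h) (by omega)
  · exact sub_eq_zero.1 ((pow_eq_zero_iff two_ne_zero).1 h)

/-- `d ≥ 3e` needs a negative `a`. -/
theorem not_pos_of_ge_three {a b c d e : ℤ} (hde : 0 < (d - e) ^ 2)
    (h4 : (d + e) ^ 2 ≤ 4 * (d - e) ^ 2) (ha : 8 ≤ a) (ha8 : a % 8 = 1)
    (hb4 : b % 4 = 1) (hc4 : c % 4 = 1) (hb : 8 ≤ |b|) (hc : 8 ≤ |c|) (hs : b + c = a + 1)
    (h : a * (d + e) ^ 2 * (b - c) ^ 2 = b * c * (a - 1) ^ 2 * (d - e) ^ 2) : False := by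
  have ha1 : 0 < (a - 1) ^ 2 := pow_pos (by omega) 2
  have hb0 : 0 < b ∧ 0 < c := by
    by_contra hn
    have h2 : b * c < 0 := by
      rcases lt_trichotomy b 0 with h' | h' | h'
      · exact mul_neg_of_neg_of_pos h' (by omega)
      · simp [h'] at hb
      · rcases lt_trichotomy c 0 with h'' | h'' | h''
        · exact mul_neg_of_pos_of_neg h' h''
        · simp [h''] at hc
        · exact absurd ⟨h', h''⟩ hn
    have h3 : 0 ≤ a * (d + e) ^ 2 * (b - c) ^ 2 :=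
      mul_nonneg (mul_nonneg (by omega) (sq_nonneg _)) (sq_nonneg _)
    have h5 : b * c * (a - 1) ^ 2 * (d - e) ^ 2 < 0 :=
      mul_neg_of_neg_of_pos (mul_neg_of_neg_of_pos h2 ha1) hde
    linarith
  rw [abs_of_pos hb0.1] at hb
  rw [abs_of_pos hb0.2] at hc
  have key : b * c * (a - 1) ^ 2 ≤ 4 * a * (b - c) ^ 2 := by
    refine le_of_mul_le_mul_right ?_ hde
    calc b * c * (a - 1) ^ 2 * (d - e) ^ 2 = a * (b - c) ^ 2 * (d + e) ^ 2 := by
          linear_combination -h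
      _ ≤ a * (b - c) ^ 2 * (4 * (d - e) ^ 2) :=
          mul_le_mul_of_nonneg_left h4 (mul_nonneg (by omega) (sq_nonneg _))
      _ = _ := by ring
  have hbc : 0 ≤ (b - 9) * (c - 9) := mul_nonneg (by omega) (by omega)
  have h9 : 9 * (a - 8) ≤ b * c := by
    calc 9 * (a - 8) ≤ 9 * (a - 8) + (b - 9) * (c - 9) := le_add_of_nonneg_right hbc
      _ = b * c := by obtain rfl : a = b + c - 1 := by linarith
                      ring
  have hd2 : (b - c) ^ 2 ≤ (a - 17) ^ 2 := by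
    refine sq_le_sq' ?_ ?_ <;> omega
  have hd3 : (a - 17) ^ 2 ≤ (a - 1) ^ 2 := by
    refine sq_le_sq' ?_ ?_ <;> omega
  have h5 : 9 * (a - 8) * (a - 1) ^ 2 ≤ 4 * a * (a - 1) ^ 2 :=
    (mul_le_mul_of_nonneg_right h9 ha1.le).trans
      (key.trans (mul_le_mul_of_nonneg_left (hd2.trans hd3) (by omega)))
  have h6 := le_of_mul_le_mul_right h5 ha1
  omega

/-- `d ≥ 3e`, negative `a` and positive `b`. -/
theorem neg_of_ge_three {a b d e : ℤ} (hde : 0 < (d - e) ^ 2)
    (h4 : (d + e) ^ 2 ≤ 4 * (d - e) ^ 2) (he : 0 < e) (hd : e < d) (ha : a ≤ -8) (ha8 : a % 8 = 1)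
    (hb4 : b % 4 = 1) (hb : 8 ≤ b)
    (h : a * (d + e) ^ 2 * (b - (a + 1 - b)) ^ 2 = b * (a + 1 - b) * (a - 1) ^ 2 * (d - e) ^ 2) :
    a = -15 ∧ d = 3 * e ∧ b = 21 := by
  obtain ⟨A, rfl⟩ : ∃ A, a = -A := ⟨-a, by omega⟩
  have key : b * (b + (A - 1)) * (-A - 1) ^ 2 ≤ 4 * A * (b - (-A + 1 - b)) ^ 2 := by
    refine le_of_mul_le_mul_right ?_ hde
    calc b * (b + (A - 1)) * (-A - 1) ^ 2 * (d - e) ^ 2
        = A * (b - (-A + 1 - b)) ^ 2 * (d + e) ^ 2 := by linear_combination h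
      _ ≤ A * (b - (-A + 1 - b)) ^ 2 * (4 * (d - e) ^ 2) :=
          mul_le_mul_of_nonneg_left h4 (mul_nonneg (by omega) (sq_nonneg _))
      _ = _ := by ring
  have key2 : b * (b + (A - 1)) * (A * A - 14 * A + 1) ≤ 4 * A * (A - 1) ^ 2 := by
    linear_combination key
  have hA15 : A = 15 := by
    by_contra hne
    have h23 : 23 ≤ A := by omega
    have hAA : 23 * A ≤ A * A := mul_le_mul_of_nonneg_right h23 (by omega)
    have h1 : 9 * (A + 8) * (A * A - 14 * A + 1) ≤ 4 * A * (A - 1) ^ 2 := by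
      refine le_trans (mul_le_mul_of_nonneg_right ?_ (by linarith)) key2
      exact mul_le_mul (by omega) (by omega) (by omega) (by omega)
    have h2 : 0 ≤ A * (5 * (A * A) - 46 * A - 1003) := mul_nonneg (by omega) (by linarith)
    linarith
  subst hA15
  norm_num at key2
  have hb21 : b ≤ 21 := by
    by_contra hgt
    have : 22 * 36 ≤ b * (b + 14) :=
      mul_le_mul (by omega) (by omega) (by norm_num) (by omega)
    linarith
  norm_num at h ⊢
  rcases (show b = 9 ∨ b = 13 ∨ b = 17 ∨ b = 21 by omega) with rfl | rfl | rfl | rfl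
  · exfalso
    have h' : (3105 : ℕ) * (32 * (d + e)) ^ 2 = (3312 * (d - e)) ^ 2 := by
      push_cast; linear_combination (-207 : ℤ) * h
    have := eq_zero_of_sq_mul (not_isSquare_of_between (m := 55) (by norm_num) (by norm_num)) h'
    omega
  · exfalso
    have h' : (5265 : ℕ) * (40 * (d + e)) ^ 2 = (5616 * (d - e)) ^ 2 := by
      push_cast; linear_combination (-351 : ℤ) * h
    have := eq_zero_of_sq_mul (not_isSquare_of_between (m := 72) (by norm_num) (by norm_num)) h'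
    omega
  · exfalso
    have h' : (7905 : ℕ) * (48 * (d + e)) ^ 2 = (8432 * (d - e)) ^ 2 := by
      push_cast; linear_combination (-527 : ℤ) * h
    have := eq_zero_of_sq_mul (not_isSquare_of_between (m := 88) (by norm_num) (by norm_num)) h'
    omega
  · refine ⟨?_, rfl⟩
    have h' : (d + e) ^ 2 = (2 * (d - e)) ^ 2 := by linarith
    rcases eq_or_eq_neg_of_sq_eq_sq _ _ h' with e1 | e1 <;> omega

/-- `d ≥ 3e` only for `a = -15`, `d = 3e`. -/
theorem ratio_ge_three {a b c d e : ℤ} (he : 0 < e) (hde : 3 * e ≤ d) (ha8 : a % 8 = 1)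
    (hb4 : b % 4 = 1) (hc4 : c % 4 = 1) (ha : 8 ≤ |a|) (hb : 8 ≤ |b|) (hc : 8 ≤ |c|)
    (hs : b + c = a + 1)
    (heq : 4 * (d * e) * (b * c) * (a - 1) ^ 2 = (d + e) ^ 2 * ((b - 1) * (c - 1)) * (a + 1) ^ 2) :
    a = -15 ∧ d = 3 * e ∧ (b = 21 ∨ c = 21) := by
  have h := degree_eq hs heq
  have hde0 : 0 < (d - e) ^ 2 := pow_pos (by linarith) 2
  have h4 : (d + e) ^ 2 ≤ 4 * (d - e) ^ 2 := by
    calc (d + e) ^ 2 ≤ (2 * (d - e)) ^ 2 := sq_le_sq' (by linarith) (by linarith)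
      _ = _ := by ring
  rcases le_or_gt 0 a with hpos | hneg
  · rw [abs_of_nonneg hpos] at ha
    exact (not_pos_of_ge_three hde0 h4 ha ha8 hb4 hc4 hb hc hs h).elim
  rw [abs_of_neg hneg] at ha
  rcases lt_trichotomy b 0 with h0 | h0 | h0
  · rcases lt_trichotomy c 0 with h1 | h1 | h1
    · exfalso
      have h2 : a * (d + e) ^ 2 * (b - c) ^ 2 ≤ 0 :=
        mul_nonpos_of_nonpos_of_nonneg (mul_nonpos_of_nonpos_of_nonneg hneg.le (sq_nonneg _))
          (sq_nonneg _)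
      have h3 : 0 < b * c * (a - 1) ^ 2 * (d - e) ^ 2 := by
        refine mul_pos (mul_pos (mul_pos_of_neg_of_neg h0 h1) ?_) hde0
        exact (sq_nonneg _).lt_of_ne' (pow_ne_zero 2 (by omega))
      linarith
    · simp [h1] at hc
    · rw [abs_of_pos h1] at hc
      obtain rfl : b = a + 1 - c := by linarith
      obtain ⟨k1, k2, k3⟩ := neg_of_ge_three hde0 h4 he (by linarith) (by omega) ha8 hc4 hc
        (by linear_combination h)
      exact ⟨k1, k2, Or.inr k3⟩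
  · simp [h0] at hb
  · rw [abs_of_pos h0] at hb
    obtain rfl : c = a + 1 - b := by linarith
    obtain ⟨k1, k2, k3⟩ := neg_of_ge_three hde0 h4 he (by linarith) (by omega) ha8 hb4 hb h
    exact ⟨k1, k2, Or.inl k3⟩

/-- The small cases. -/
theorem index_small {N B u : ℤ} (hN0 : 0 < N) (h7 : N % 8 = 7) (hB0 : 0 < B) (hu : u ≠ 0) (hu1 : u ≠ -1)
    (hb : 3 * N * u ^ 2 ≤ (8 * u + 1) * (4 * u + 1))
    (h : N * B ^ 2 = 4 * N * u ^ 2 - (8 * u + 1) * (4 * u + 1)) :
    N = 7 ∧ u = -2 ∧ B = 1 ∨ N = 15 ∧ u = 1 ∧ B = 1 := by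
  have husq : u ^ 2 = u * u := pow_two u
  have hN15 : N ≤ 15 := by
    by_contra h16
    have h16' : 16 * u ^ 2 ≤ N * u ^ 2 := mul_le_mul_of_nonneg_right (by omega) (sq_nonneg u)
    rcases (show 1 ≤ u ∨ u ≤ -2 by omega) with h' | h'
    · have := mul_le_mul_of_nonneg_right h' (show (0 : ℤ) ≤ u by omega)
      linarith
    · have := sq_nonneg u
      linarith
  have hB2 : 1 ≤ B * B := one_le_mul_of_one_le_of_one_le hB0 hB0
  have hBsq : B ^ 2 = B * B := pow_two B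
  have hB1 : B * B = 1 → B = 1 := fun e =>
    ((mul_self_eq_one_iff).1 e).resolve_right (by omega)
  rcases (show N = 7 ∨ N = 15 by omega) with rfl | rfl
  · left
    have hu2 : u = -2 := by
      by_contra hne
      rcases (show 1 ≤ u ∨ u ≤ -3 by omega) with h' | h'
      · have := mul_self_nonneg u
        linarith
      · have := mul_nonneg_of_nonpos_of_nonpos (show u ≤ 0 by omega) (show u + 3 ≤ 0 by omega)
        linarith
    subst hu2
    exact ⟨rfl, rfl, hB1 (by linarith)⟩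
  · right
    have hu2 : u = 1 := by
      by_contra hne
      rcases (show 2 ≤ u ∨ u ≤ -2 by omega) with h' | h'
      · have := mul_le_mul_of_nonneg_right h' (show (0 : ℤ) ≤ u by omega)
        linarith
      · have := mul_self_nonneg u
        linarith
    subst hu2
    exact ⟨rfl, rfl, hB1 (by linarith)⟩

/-- An odd index and coprime `A ≥ B`. -/
theorem index_ratio_coprime {N A B a : ℤ} (hN : N % 2 = 1) (hN0 : 0 < N) (hA : A % 2 = 1)
    (hB : B % 2 = 1) (hB0 : 0 < B) (hAB : B ≤ A) (hcop : IsCoprime A B) (h8 : a % 8 = 1)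
    (ha : 8 ≤ |a|)
    (heq : N * (A * (A + 2 * B)) * (a - 1) ^ 2 = 8 * (a * (a + 1)) * (A + B) ^ 2) :
    a = -15 ∧ A = 3 * B ∨ a = 9 ∧ A = B := by
  obtain ⟨u, rfl⟩ : ∃ u, a = 8 * u + 1 := ⟨a / 8, by omega⟩
  obtain ⟨w, hw⟩ : ∃ w, A + B = 2 * w := ⟨(A + B) / 2, by omega⟩
  obtain rfl : A = 2 * w - B := by linarith
  have hu : u ≠ 0 ∧ u ≠ -1 := by
    constructor <;> · rintro rfl; norm_num at ha
  set U := 4 * w ^ 2 - B ^ 2 with hU
  set P := (8 * u + 1) * (4 * u + 1) with hP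
  have e1 : N * U * u ^ 2 = w ^ 2 * P := by
    apply mul_left_cancel₀ (show (64 : ℤ) ≠ 0 by norm_num)
    rw [hU, hP]
    linear_combination heq
  have hw0 : B ≤ w := by omega
  have hwB : IsCoprime w B := by
    obtain ⟨x, y, hxy⟩ := hcop
    exact ⟨2 * x, y - x, by linear_combination hxy⟩
  have hwU : IsCoprime w U := by
    obtain ⟨x, y, hxy⟩ := hwB.pow_right (n := 2)
    exact ⟨x + 4 * w * y, -y, by rw [hU]; linear_combination hxy⟩
  have huP : IsCoprime (u ^ 2) P :=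
    ((show IsCoprime u (8 * u + 1) from ⟨-8, 1, by ring⟩).mul_right
      (show IsCoprime u (4 * u + 1) from ⟨-4, 1, by ring⟩)).pow_left
  obtain ⟨j, rfl⟩ := (Int.pow_dvd_pow_iff two_ne_zero).1
    (huP.dvd_of_dvd_mul_right (y := w ^ 2) ⟨N * U, by linear_combination -e1⟩)
  have e2 : N * U = j ^ 2 * P := by
    apply mul_right_cancel₀ (pow_ne_zero 2 hu.1)
    linear_combination e1
  have hjU : IsCoprime (j ^ 2) U := (hwU.of_mul_left_right).pow_left
  obtain ⟨N', rfl⟩ := hjU.dvd_of_dvd_mul_right (y := N) ⟨P, e2⟩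
  have hj : j ≠ 0 := by rintro rfl; simp at hN0
  have e3 : N' * U = P := by
    apply mul_left_cancel₀ (pow_ne_zero 2 hj)
    linear_combination e2
  have e4 : N' * B ^ 2 = 4 * (j ^ 2 * N') * u ^ 2 - P := by
    rw [← e3, hU]; ring
  have hj2 : 0 < j ^ 2 := by positivity
  have hN' : 0 < N' := pos_of_mul_pos_right hN0 hj2.le
  have h7 : N' % 8 = 7 := by
    obtain ⟨b', hb'⟩ : ∃ b', B ^ 2 = 8 * b' + 1 := by
      obtain ⟨k, rfl⟩ : ∃ k, B = 2 * k + 1 := ⟨B / 2, by omega⟩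
      obtain ⟨m, hm⟩ : ∃ m, k * (k + 1) = 2 * m :=
        ⟨k * (k + 1) / 2, by have := Int.even_mul_succ_self k; obtain ⟨r, hr⟩ := this; omega⟩
      exact ⟨m, by linear_combination 4 * hm⟩
    obtain ⟨m, hm⟩ : ∃ m, u * (j ^ 2 * N' * u - 3) = 2 * m := by
      rcases Int.even_or_odd' u with ⟨k, rfl | rfl⟩
      · exact ⟨k * (j ^ 2 * N' * (2 * k) - 3), by ring⟩
      · obtain ⟨l, hl⟩ : ∃ l, j ^ 2 * N' = 2 * l + 1 := ⟨j ^ 2 * N' / 2, by omega⟩
        exact ⟨(2 * k + 1) * (l * (2 * k + 1) + k - 1), by rw [hl]; ring⟩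
    have e5 : N' * (8 * b' + 1) = 8 * (m - 4 * u ^ 2) - 1 := by
      rw [← hb', e4, hP]; linear_combination 4 * hm
    have e6 : N' = 8 * (m - 4 * u ^ 2 - N' * b') - 1 := by linear_combination e5
    omega
  have hbound : 3 * (j ^ 2 * N') * u ^ 2 ≤ P := by
    have hU3 : 3 * (u * j) ^ 2 ≤ U := by
      have := sq_le_sq' (a := B) (b := u * j) (by omega) hw0
      rw [hU]; linarith
    refine le_of_mul_le_mul_left ?_ (show (0 : ℤ) < (u * j) ^ 2 from
      (sq_nonneg _).lt_of_ne' (pow_ne_zero 2 (mul_ne_zero hu.1 hj)))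
    calc (u * j) ^ 2 * (3 * (j ^ 2 * N') * u ^ 2) = (j ^ 2 * N') * u ^ 2 * (3 * (u * j) ^ 2) := by ring
      _ ≤ (j ^ 2 * N') * u ^ 2 * U := mul_le_mul_of_nonneg_left hU3 (by positivity)
      _ = (u * j) ^ 2 * P := by linear_combination e1
  rw [hP] at hbound e4
  have hN'7 : 7 ≤ N' := by omega
  have hj1 : j ^ 2 = 1 := by
    by_contra hne
    have h4 : 4 ≤ j ^ 2 := by
      have : j ≠ 1 ∧ j ≠ -1 := by constructor <;> · rintro rfl; simp at hne
      rcases (show 2 ≤ j ∨ j ≤ -2 by omega) with h | h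
      · exact le_trans (by norm_num) (pow_le_pow_left₀ (by norm_num) h 2)
      · rw [← neg_sq j]
        exact le_trans (by norm_num) (pow_le_pow_left₀ (by norm_num) (show 2 ≤ -j by omega) 2)
    have h28 : 28 * u ^ 2 ≤ j ^ 2 * N' * u ^ 2 :=
      mul_le_mul_of_nonneg_right (le_trans (by norm_num) (mul_le_mul h4 hN'7 (by norm_num) hj2.le))
        (sq_nonneg u)
    have husq : u ^ 2 = u * u := pow_two u
    rcases (show 1 ≤ u ∨ u ≤ -2 by omega) with h' | h'
    · have := mul_le_mul_of_nonneg_right h' (show (0 : ℤ) ≤ u by omega)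
      linarith
    · have := sq_nonneg u
      linarith
  rw [hj1, one_mul] at e4 hbound
  have hsmall := index_small hN' h7 hB0 hu.1 hu.2 hbound e4
  rcases sq_eq_one_iff.1 hj1 with rfl | rfl <;>
    rcases hsmall with ⟨-, rfl, rfl⟩ | ⟨-, rfl, rfl⟩ <;> omega

/-- An odd index and `A ≥ B`. -/
theorem index_ratio {N A B : ℕ} {a : ℤ} (hN : Odd N) (hA : Odd A) (hB : Odd B) (hAB : B ≤ A)
    (h8 : a % 8 = 1) (ha : 8 ≤ |a|)
    (heq : (N : ℤ) * ((A : ℤ) * ((A : ℤ) + 2 * B)) * (a - 1) ^ 2 =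
      8 * (a * (a + 1)) * ((A : ℤ) + B) ^ 2) :
    a = -15 ∧ A = 3 * B ∨ a = 9 ∧ A = B := by
  obtain ⟨A', B', hc, hA', hB'⟩ := Nat.exists_coprime A B
  set g := Nat.gcd A B with hg
  have hB0 : 0 < B := hB.pos
  have hg0 : 0 < g := Nat.gcd_pos_of_pos_right _ hB0
  have hAo : Odd A' := Nat.Odd.of_mul_left (hA' ▸ hA)
  have hBo : Odd B' := Nat.Odd.of_mul_left (hB' ▸ hB)
  have h1 := index_ratio_coprime (N := (N : ℤ)) (A := (A' : ℤ)) (B := (B' : ℤ))
    (by exact_mod_cast Nat.odd_iff.1 hN) (by exact_mod_cast hN.pos)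
    (by exact_mod_cast Nat.odd_iff.1 hAo) (by exact_mod_cast Nat.odd_iff.1 hBo)
    (by exact_mod_cast hBo.pos)
    (by exact_mod_cast Nat.le_of_mul_le_mul_right (hA' ▸ hB' ▸ hAB) hg0)
    (Nat.isCoprime_iff_coprime.2 hc) h8 ha (by
      rw [hA', hB'] at heq
      push_cast at heq
      apply mul_left_cancel₀ (show ((g : ℤ)) ^ 2 ≠ 0 by positivity)
      linear_combination heq)
  rcases h1 with ⟨e, e'⟩ | ⟨e, e'⟩
  · have e'' : A' = 3 * B' := by exact_mod_cast e'
    exact Or.inl ⟨e, by rw [hA', hB', e'']; ring⟩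
  · have e'' : A' = B' := by exact_mod_cast e'
    exact Or.inr ⟨e, by rw [hA', hB', e'']⟩

end Cfsg.Agent.GW.BigCentral
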