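import Cfsg.Agent.Lib.GW.PartII.BigCentral.Basic
import Cfsg.Agent.S4479
import Cfsg.Agent.S0948
import Cfsg.Agent.Lib.SmallCofactor.Basic

/-!
# A maximal subgroup containing the centraliser of an involution with one class of involutions

Both `G` and such a subgroup `M` satisfy the order formula with the same centralisers, so the
index is small: at most 2 if `|S| ≥ 8`, at most 5 if `|S| = 4`.
-/

set_option autoImplicit false
set_option linter.style.haveILetI false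
set_option linter.unusedSectionVars false

namespace Cfsg.Agent.GW.BigCentral

open Subgroup Cfsg
open BSW.DihedralTI (Gens)

universe u

variable {G : Type u} [Group G] [Finite G] {S : Sylow 2 G} {t : G}

theorem rho_lower {a : ℤ} (h8 : (8 : ℤ) ∣ a - 1) : 21 * (a - 1) ^ 2 ≤ 32 * (a * (a + 1)) := by
  obtain ⟨k, hk⟩ := h8
  obtain rfl : a = 8 * k + 1 := by omega
  have h : 0 ≤ (11 * (8 * k + 1) - 3) * (8 * k + 1 + 7) := by
    rcases le_or_gt 0 k with h | h
    · exact mul_nonneg (by omega) (by omega)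
    · exact mul_nonneg_of_nonpos_of_nonpos (by omega) (by omega)
  nlinarith

theorem rho_upper {a : ℤ} (h8 : (8 : ℤ) ∣ a - 1) (h1 : a ≠ 1) :
    32 * (a * (a + 1)) ≤ 45 * (a - 1) ^ 2 := by
  obtain ⟨k, hk⟩ := h8
  obtain rfl : a = 8 * k + 1 := by omega
  have h : 0 ≤ (13 * (8 * k + 1) - 5) * (8 * k + 1 - 9) := by
    rcases le_or_gt 1 k with h | h
    · exact mul_nonneg (by omega) (by omega)
    · exact mul_nonneg_of_nonpos_of_nonpos (by omega) (by omega)
  nlinarith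

/-- The generators of a dihedral Sylow subgroup of order at least 8, with conjugate involutions,
give the data of the dihedral block; its order formula. -/
theorem order_int_of_gens {X : Type u} [Group X] [Finite X] {k : ℕ} (hk : 1 ≤ k) (P : Sylow 2 X)
    {σ τ : X} (hσ : σ ∈ (P : Subgroup X)) (hτ : τ ∈ (P : Subgroup X))
    (hσo : orderOf σ = 2 ^ (k + 1)) (hτo : orderOf τ = 2) (hrel : τ * σ * τ⁻¹ = σ⁻¹)
    (hgen : closure ({σ, τ} : Set X) = (P : Subgroup X))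
    (h1 : IsConj (σ ^ 2 ^ k) τ) (h2 : IsConj (σ ^ 2 ^ k) (σ * τ)) :
    ∃ a : ℤ, (8 : ℤ) ∣ a - 1 ∧ a ≠ 1 ∧
      (Nat.card X : ℤ) * (a - 1) ^ 2 *
          ((Nat.card (centralizer ({σ ^ 2 ^ k, τ} : Set X)) : ℤ) *
            Nat.card (centralizer ({σ ^ 2 ^ k, σ * τ} : Set X))) ^ 2 =
        2 * (a * (a + 1)) * (Nat.card (centralizer ({σ ^ 2 ^ k} : Set X)) : ℤ) ^ 3 *
          ((Nat.card (centralizer ({σ ^ 2 ^ k, τ} : Set X)) : ℤ) +
            Nat.card (centralizer ({σ ^ 2 ^ k, σ * τ} : Set X))) ^ 2 := by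
  haveI := Fintype.ofFinite X
  obtain ⟨d, hform⟩ := DihedralBlock.exists_data (n := k + 2) (by omega) P hσ hτ
    (by rw [show k + 2 - 1 = k + 1 by omega]; exact hσo) hτo hrel hgen
    (by rw [Nat.add_sub_cancel]; exact ⟨h1, h2⟩)
  have hd := exists_order_int d P hσ hτ hform
  rw [Nat.add_sub_cancel] at hd
  obtain ⟨a, ha4, ha1, he⟩ := hd
  refine ⟨a, Dvd.dvd.trans ⟨2 ^ (k - 1), ?_⟩ ha4, ha1, he⟩
  push_cast
  rw [show (8 : ℤ) = 4 * 2 by norm_num, mul_assoc, ← pow_succ', show k - 1 + 1 = k by omega]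

/-- `|S| ≥ 8`: one class of involutions in `M` is impossible. -/
theorem false_of_oneClass_large (hyp : Hyp S t) (g : Gens S t) (hk : 1 ≤ g.k) {M : Subgroup G}
    (hM : M ≠ ⊤) (hCM : Cent t ≤ M)
    (hone : ∀ x y : M, orderOf x = 2 → orderOf y = 2 → IsConj x y) : False := by
  haveI : Fact (Nat.Prime 2) := ⟨Nat.prime_two⟩
  have hSM := sylow_le hyp hCM
  have hJ : g.σ ^ 2 ^ g.k = t := exists_rot hyp
  have hτ2 := g.hτo
  have hστ2 : orderOf (g.σ * g.τ) = 2 := by simpa using refl_order g 1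
  set σ' : M := ⟨g.σ, hSM g.hσ⟩ with hσ'
  set τ' : M := ⟨g.τ, hSM g.hτ⟩ with hτ'
  have hJ' : ((σ' ^ 2 ^ g.k : M) : G) = t := by rw [SubgroupClass.coe_pow]; exact hJ
  have hJ'2 : orderOf (σ' ^ 2 ^ g.k) = 2 := by rw [← orderOf_coe, hJ', hyp.orderT]
  obtain ⟨a, ha8, ha1, haG⟩ := order_int_of_gens hk S g.hσ g.hτ (g.hord.trans g.hn) g.hτo g.hrel
    (gens_closure g) (by rw [hJ]; exact hyp.isConj_invol hyp.orderT hτ2)
    (by rw [hJ]; exact hyp.isConj_invol hyp.orderT hστ2)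
  obtain ⟨a', ha'8, ha'1, haM⟩ := order_int_of_gens hk (S.subtype hSM) (σ := σ') (τ := τ')
    (by rw [Sylow.coe_subtype]; exact g.hσ) (by rw [Sylow.coe_subtype]; exact g.hτ)
    (by rw [← orderOf_coe]; exact g.hord.trans g.hn) (by rw [← orderOf_coe]; exact g.hτo)
    (Subtype.ext g.hrel) (subtype_closure g hSM)
    (hone _ _ hJ'2 (by rw [← orderOf_coe]; exact hτ2))
    (hone _ _ hJ'2 (by rw [← orderOf_coe]; exact hστ2))
  have hcen : Cent ((σ' ^ 2 ^ g.k : M) : G) ≤ M := by rw [hJ']; exact hCM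
  rw [card_cent_subtype _ hcen, card_cent_pair_subtype _ _ hcen,
    card_cent_pair_subtype _ _ hcen, hJ', show ((σ' * τ' : M) : G) = g.σ * g.τ from rfl,
    show (τ' : G) = g.τ from rfl] at haM
  rw [hJ] at haG
  set p : ℤ := (Nat.card (centralizer ({t, g.τ} : Set G)) : ℤ)
  set q : ℤ := (Nat.card (centralizer ({t, g.σ * g.τ} : Set G)) : ℤ)
  set C : ℤ := (Nat.card (Cent t) : ℤ)
  have hp : 0 < p := Int.natCast_pos.2 Nat.card_pos
  have hq : 0 < q := Int.natCast_pos.2 Nat.card_pos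
  have hC : 0 < C := Int.natCast_pos.2 Nat.card_pos
  have hm : (Nat.card M : ℤ) * M.index = Nat.card G := by exact_mod_cast M.card_mul_index
  set F := 2 * C ^ 3 * (p + q) ^ 2 with hF
  have hF0 : 0 ≤ F := by positivity
  have hsq : ∀ {x : ℤ}, x ≠ 1 → 0 < (x - 1) ^ 2 := fun h =>
    (sq_nonneg _).lt_of_ne' (pow_ne_zero 2 (sub_ne_zero.2 h))
  have hG : 32 * (Nat.card G : ℤ) * (p * q) ^ 2 ≤ 45 * F := by
    refine le_of_mul_le_mul_right ?_ (hsq ha1)
    calc 32 * (Nat.card G : ℤ) * (p * q) ^ 2 * (a - 1) ^ 2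
        = F * (32 * (a * (a + 1))) := by rw [hF]; linear_combination 32 * haG
      _ ≤ F * (45 * (a - 1) ^ 2) := mul_le_mul_of_nonneg_left (rho_upper ha8 ha1) hF0
      _ = _ := by ring
  have hM' : 21 * F ≤ 32 * (Nat.card M : ℤ) * (p * q) ^ 2 := by
    refine le_of_mul_le_mul_right ?_ (hsq ha'1)
    calc 21 * F * (a' - 1) ^ 2 = F * (21 * (a' - 1) ^ 2) := by ring
      _ ≤ F * (32 * (a' * (a' + 1))) := mul_le_mul_of_nonneg_left (rho_lower ha'8) hF0
      _ = 32 * (Nat.card M : ℤ) * (p * q) ^ 2 * (a' - 1) ^ 2 := by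
        rw [hF]; linear_combination -32 * haM
  have hlt : M.index < 3 := by
    by_contra h3
    push Not at h3
    have h3' : (3 : ℤ) ≤ M.index := by exact_mod_cast h3
    have hpos : 0 < (Nat.card M : ℤ) * (p * q) ^ 2 := by
      have : (0 : ℤ) < Nat.card M := by exact_mod_cast Nat.card_pos
      positivity
    rw [← hm] at hG
    nlinarith [mul_le_mul_of_nonneg_left h3' hpos.le]
  rcases (show M.index = 0 ∨ M.index = 1 ∨ M.index = 2 by omega) with h | h | h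
  · exact Subgroup.index_ne_zero_of_finite h
  · exact hM (index_eq_one.1 h)
  · exact hyp.index_ne_two M (normal_of_index_eq_two h) h

theorem alpha_upper {x y z ε : ℤ} (hx : 5 ≤ x) (hy : ε = 1 ∧ 5 ≤ y ∨ ε = -1 ∧ 3 ≤ y) (hz : 3 ≤ z) :
    0 < (x + 1) * (y + ε) * (z - 1) ∧ 4 * (x * y * z) < 9 * ((x + 1) * (y + ε) * (z - 1)) := by
  have hye : 0 < y + ε := by rcases hy with ⟨rfl, h⟩ | ⟨rfl, h⟩ <;> omega
  have h2 : 2 * z ≤ 3 * (z - 1) := by omega
  have h3 : 2 * y ≤ 3 * (y + ε) := by rcases hy with ⟨rfl, h⟩ | ⟨rfl, h⟩ <;> omega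
  refine ⟨mul_pos (mul_pos (by omega) hye) (by omega), ?_⟩
  calc 4 * (x * y * z) = x * ((2 * y) * (2 * z)) := by ring
    _ ≤ x * ((3 * (y + ε)) * (3 * (z - 1))) := by
        refine mul_le_mul_of_nonneg_left (mul_le_mul h3 h2 (by omega) (by positivity)) (by omega)
    _ < (x + 1) * ((3 * (y + ε)) * (3 * (z - 1))) := by
        refine mul_lt_mul_of_pos_right (by omega) (mul_pos (by omega) (by omega))
    _ = _ := by ring

theorem alpha_lower {x y z ε : ℤ} (hx : 1 ≤ x ∧ x % 4 = 1)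
    (hy : ε = 1 ∧ 1 ≤ y ∧ y % 4 = 1 ∨ ε = -1 ∧ 3 ≤ y) (hz : 3 ≤ z) (hr : 1 + x + ε * y - z = 0) :
    0 ≤ (x + 1) * (y + ε) * (z - 1) ∧ 3 * ((x + 1) * (y + ε) * (z - 1)) ≤ 8 * (x * y * z) := by
  rcases hy with ⟨rfl, h1, h4⟩ | ⟨rfl, h1⟩
  · obtain rfl : z = x + y + 1 := by omega
    refine ⟨mul_nonneg (mul_nonneg (by omega) (by omega)) (by omega), ?_⟩
    rcases (show x = 1 ∨ 5 ≤ x by omega) with rfl | h5
    · rcases (show y = 1 ∨ 5 ≤ y by omega) with rfl | h6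
      · norm_num
      · nlinarith
    · have e1 : x * 1 ≤ x * y := mul_le_mul_of_nonneg_left h1 (by omega)
      have e2 : 5 * y ≤ x * y := mul_le_mul_of_nonneg_right h5 (by omega)
      have e3 : 3 * ((x + 1) * (y + 1)) ≤ 8 * (x * y) := by linarith
      calc 3 * ((x + 1) * (y + 1) * (x + y + 1 - 1)) = 3 * ((x + 1) * (y + 1)) * (x + y) := by ring
        _ ≤ 8 * (x * y) * (x + y + 1) := mul_le_mul e3 (by omega) (by omega) (by linarith)
        _ = _ := by ring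
  · refine ⟨mul_nonneg (mul_nonneg (by omega) (by omega)) (by omega), ?_⟩
    have e : (x + 1) * (y + -1) * (z - 1) ≤ (2 * x) * y * z := by
      refine mul_le_mul (mul_le_mul (by omega) (by omega) (by omega) (by omega)) (by omega) (by omega)
        (mul_nonneg (by omega) (by omega))
    nlinarith [mul_pos (mul_pos (show 0 < x by omega) (show 0 < y by omega)) (show 0 < z by omega)]

/-- The order formula for a Klein four Sylow subgroup and one class of involutions. -/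
theorem exists_klein_int {X : Type u} [Group X] [Finite X] (P : Sylow 2 X)
    (hP : IsKleinFour (P : Subgroup X))
    (hone : ∀ x y : X, orderOf x = 2 → orderOf y = 2 → IsConj x y)
    (hnc : ¬ HasNormalPComplement 2 X) {J : X} (hJ : J ∈ (P : Subgroup X)) (hJ2 : orderOf J = 2) :
    ∃ x y z : ℕ, ∃ ε : ℤ, x % 4 = 1 ∧ z % 4 = 3 ∧
      (ε = 1 ∧ y % 4 = 1 ∨ ε = -1 ∧ y % 4 = 3) ∧ (1 : ℤ) + x + ε * y - z = 0 ∧
      (∃ χ : IrrCharacter X, χ ≠ Char.trivialChar X ∧ x = charDegree χ.1) ∧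
      (∃ χ : IrrCharacter X, χ ≠ Char.trivialChar X ∧ y = charDegree χ.1) ∧
      (Nat.card X : ℤ) * (((x : ℤ) + 1) * ((y : ℤ) + ε) * ((z : ℤ) - 1)) *
          (Nat.card (centralizer ((P : Subgroup X) : Set X)) : ℤ) ^ 2 =
        8 * ((x : ℤ) * y * z) * (Nat.card (centralizer ({J} : Set X)) : ℤ) ^ 3 := by
  classical
  haveI : Fact (Nat.Prime 2) := ⟨Nat.prime_two⟩
  obtain ⟨M, hM⟩ := ZStar.exists_isPModular_two
  obtain ⟨ζ₂, ζ₃, ζ₄, ε, hε, h2, h3, h23, h24, h34, hB, hval, dx, dy, dz, hrel⟩ :=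
    S0948.result M hM P hP hone
  obtain ⟨v2, v3, v4⟩ := hval J hJ2
  have h4 : (ζ₄ : X → ℂ) ≠ (fun _ => 1) := fun h => by
    rw [h] at v4; norm_num at v4
  have hP4 : Nat.card (P : Subgroup X) = 4 := IsKleinFour.card_four
  set g₀ := (P : Subgroup X).index
  have hg₀ : Odd g₀ := Nat.odd_iff.2 (Nat.two_dvd_ne_zero.1 P.not_dvd_index)
  have hcard : Nat.card X = 4 * g₀ := by rw [← hP4]; exact (P : Subgroup X).card_mul_index.symm
  have hnc' : ¬ ∃ N : Subgroup X, N.Normal ∧ Nat.card N = g₀ := by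
    rintro ⟨N, hN, hNc⟩
    refine hnc ⟨P, N, hN, isComplement'_of_coprime ?_ ?_⟩
    · rw [hNc, hP4, hcard, mul_comm]
    · rw [hNc, hP4]; exact (Nat.coprime_two_right.2 hg₀).pow_right 2
  have hord := S4479.result M hM g₀ hg₀ hcard hnc' P J hJ hJ2 ζ₂ ζ₃ ζ₄ 1 ε (-1) hB
    ⟨h2, h3, h4, h23, h24, h34⟩ ⟨Or.inl rfl, hε, Or.inr rfl⟩
    ⟨by rw [v2, Int.cast_one], v3, by rw [v4]; norm_num⟩
  have hrel1 := hrel 1 (by rw [orderOf_one]; exact odd_one)
  simp only [← Char.charDegree_cast] at hrel1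
  set x := charDegree ζ₂.1 with hx
  set y := charDegree ζ₃.1 with hy
  set z := charDegree ζ₄.1 with hz
  have hxp : 0 < x := Char.charDegree_pos ζ₂
  have hyp : 0 < y := Char.charDegree_pos ζ₃
  have hzp : 0 < z := Char.charDegree_pos ζ₄
  have hne : ∀ {χ : IrrCharacter X}, χ.1 ≠ (fun _ => 1) → χ ≠ Char.trivialChar X :=
    fun h he => h (by rw [he]; rfl)
  refine ⟨x, y, z, ε, by omega, by omega, ?_, ?_, ⟨ζ₂, hne h2, hx⟩, ⟨ζ₃, hne h3, hy⟩, ?_⟩
  · rcases hε with rfl | rfl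
    · exact Or.inl ⟨rfl, by omega⟩
    · exact Or.inr ⟨rfl, by omega⟩
  · have : (((1 : ℤ) + x + ε * y - z : ℤ) : ℂ) = 0 := by push_cast; exact hrel1
    exact_mod_cast this
  · apply (Int.cast_injective (α := ℚ))
    set c := (Nat.card (centralizer ((P : Subgroup X) : Set X)) : ℚ)
    have hc : c ≠ 0 := Nat.cast_ne_zero.2 Nat.card_pos.ne'
    have hden : ((x : ℚ) + 1) * ((y : ℚ) + (ε : ℚ)) * ((z : ℚ) - 1) ≠ 0 := by
      have h1 : ((y : ℤ) + ε) ≠ 0 := by rcases hε with rfl | rfl <;> omega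
      have h1' : ((y : ℚ) + (ε : ℚ)) ≠ 0 := by exact_mod_cast h1
      have h0 : ((z : ℤ) - 1) ≠ 0 := by omega
      have h0' : ((z : ℚ) - 1) ≠ 0 := by exact_mod_cast h0
      exact mul_ne_zero (mul_ne_zero (by positivity) h1') h0'
    push_cast at hord ⊢
    rw [← sub_eq_add_neg, eq_div_iff (pow_ne_zero 2 hc)] at hord
    rw [mul_div_assoc', div_mul_eq_mul_div, eq_div_iff hden] at hord
    linear_combination hord

/-- `|S| = 4`: one class of involutions in `M` leaves index at most 5. -/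
theorem index_le_five (hyp : Hyp S t) [IsKleinFour (S : Subgroup G)] {M : Subgroup G}
    (hCM : Cent t ≤ M) (hbig : ¬ HasNormalPComplement 2 M)
    (hone : ∀ x y : M, orderOf x = 2 → orderOf y = 2 → IsConj x y) : M.index ≤ 5 := by
  haveI : Fact (Nat.Prime 2) := ⟨Nat.prime_two⟩
  haveI := hyp.simple
  have hSM := sylow_le hyp hCM
  have hG : ¬ HasNormalPComplement 2 G := by
    rintro ⟨P, N, hN, hc⟩
    have h := hc.card_mul_card
    rcases hN.eq_bot_or_eq_top with rfl | rfl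
    · rw [card_bot, one_mul] at h
      have hP : IsPGroup 2 G := fun g => by
        obtain ⟨k, hk⟩ := P.2 ⟨g, by rw [eq_top_of_card_eq _ h]; trivial⟩
        exact ⟨k, congrArg Subtype.val hk⟩
      haveI : Nontrivial G := inferInstance
      rcases (IsSimpleGroup.eq_bot_or_eq_top_of_normal (center G) inferInstance) with e | e
      · exact (hP.bot_lt_center).ne' e
      · exact hyp.not_comm ⟨⟨fun a b => (mem_center_iff.1 (e ▸ mem_top b) a)⟩⟩
    · rw [card_top] at h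
      have h4 : Nat.card (P : Subgroup G) = 4 := by
        rw [Sylow.card_eq_multiplicity, ← Sylow.card_eq_multiplicity S, IsKleinFour.card_four]
      rw [h4] at h
      have := (Nat.card_pos : 0 < Nat.card G)
      omega
  obtain ⟨x, y, z, ε, hx4, hz4, hy, hr, ⟨χ, hχ, hxd⟩, ⟨χ', hχ', hyd⟩, eG⟩ :=
    exists_klein_int S ‹_› (fun a b => hyp.isConj_invol) hG hyp.memS hyp.orderT
  haveI : IsKleinFour ((S.subtype hSM : Sylow 2 M) : Subgroup M) := by
    rw [Sylow.coe_subtype]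
    exact ⟨by rw [Nat.card_congr (subgroupOfEquivOfLe hSM).toEquiv, IsKleinFour.card_four],
      by rw [Monoid.exponent_eq_of_mulEquiv (subgroupOfEquivOfLe hSM), IsKleinFour.exponent_two]⟩
  obtain ⟨x', y', z', ε', hx4', hz4', hy', hr', -, -, eM⟩ := exists_klein_int (S.subtype hSM) ‹_› hone
    hbig (J := ⟨t, t_mem hyp hCM⟩) (by rw [Sylow.coe_subtype]; exact hyp.memS)
    (by rw [← orderOf_coe]; exact hyp.orderT)
  have hcS : centralizer ((S : Subgroup G) : Set G) ≤ M :=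
    (centralizer_le (Set.singleton_subset_iff.2 hyp.memS)).trans hCM
  have himg : Subtype.val '' (((S.subtype hSM : Sylow 2 M) : Subgroup M) : Set M) =
      ((S : Subgroup G) : Set G) := by
    rw [Sylow.coe_subtype, ← Subgroup.coe_subtype, ← coe_map, map_subgroupOf_eq_of_le hSM]
  rw [card_cent_subtype _ (show Cent ((⟨t, t_mem hyp hCM⟩ : M) : G) ≤ M from hCM),
    card_centralizer_subtype _ (by rw [himg]; exact hcS), himg] at eM
  have hdeg : ∀ {χ : IrrCharacter G}, χ ≠ Char.trivialChar G → charDegree χ.1 ≠ 1 := fun hne =>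
    (SmallCofactor.one_lt_degree hyp.not_comm hne).ne'
  have hx5 : 5 ≤ (x : ℤ) := by have := hdeg hχ; omega
  have hy5 : ε = 1 ∧ 5 ≤ (y : ℤ) ∨ ε = -1 ∧ 3 ≤ (y : ℤ) := by
    have := hdeg hχ'
    rcases hy with ⟨rfl, h⟩ | ⟨rfl, h⟩
    · exact Or.inl ⟨rfl, by omega⟩
    · exact Or.inr ⟨rfl, by omega⟩
  obtain ⟨hD, hU⟩ := alpha_upper hx5 hy5 (show 3 ≤ (z : ℤ) by omega)
  obtain ⟨hD', hL⟩ := alpha_lower (x := x') (y := y') (z := z') (ε := ε') ⟨by omega, by omega⟩
    (by rcases hy' with ⟨rfl, h⟩ | ⟨rfl, h⟩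
        · exact Or.inl ⟨rfl, by omega, by omega⟩
        · exact Or.inr ⟨rfl, by omega⟩) (by omega) hr'
  set c : ℤ := (Nat.card (centralizer ((S : Subgroup G) : Set G)) : ℤ)
  set C : ℤ := (Nat.card (Cent t) : ℤ)
  have hc : 0 < c := Int.natCast_pos.2 Nat.card_pos
  have hC : 0 < C := Int.natCast_pos.2 Nat.card_pos
  have hm : (Nat.card M : ℤ) * M.index = Nat.card G := by exact_mod_cast M.card_mul_index
  have hG18 : (Nat.card G : ℤ) * c ^ 2 < 18 * C ^ 3 := by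
    refine lt_of_mul_lt_mul_right ?_ hD.le
    calc (Nat.card G : ℤ) * c ^ 2 * (((x : ℤ) + 1) * (y + ε) * (z - 1))
        = 2 * C ^ 3 * (4 * ((x : ℤ) * y * z)) := by linear_combination eG
      _ < 2 * C ^ 3 * (9 * (((x : ℤ) + 1) * (y + ε) * (z - 1))) :=
          mul_lt_mul_of_pos_left hU (by positivity)
      _ = _ := by ring
  have hDpos : 0 < ((x' : ℤ) + 1) * (y' + ε') * (z' - 1) := by
    refine hD'.lt_of_ne' fun h => ?_
    rw [h, mul_zero, zero_mul] at eM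
    have h0 : (0 : ℤ) < (x' : ℤ) * y' * z' := by
      have : 0 < x' ∧ 0 < y' ∧ 0 < z' := by omega
      obtain ⟨a, b, e⟩ := this
      positivity
    nlinarith [pow_pos hC 3, mul_pos h0 (pow_pos hC 3)]
  have hM3 : 3 * C ^ 3 ≤ (Nat.card M : ℤ) * c ^ 2 := by
    refine le_of_mul_le_mul_right ?_ hDpos
    calc 3 * C ^ 3 * (((x' : ℤ) + 1) * (y' + ε') * (z' - 1))
        = C ^ 3 * (3 * (((x' : ℤ) + 1) * (y' + ε') * (z' - 1))) := by ring
      _ ≤ C ^ 3 * (8 * ((x' : ℤ) * y' * z')) := mul_le_mul_of_nonneg_left hL (by positivity)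
      _ = _ := by linear_combination -eM
  by_contra h6
  push Not at h6
  have h6' : (6 : ℤ) ≤ M.index := by exact_mod_cast h6
  rw [← hm] at hG18
  nlinarith [mul_le_mul_of_nonneg_left h6'
    (show (0 : ℤ) ≤ (Nat.card M : ℤ) * c ^ 2 by positivity)]

end Cfsg.Agent.GW.BigCentral
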