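import Cfsg.Agent.Lib.GW.Basic
import Cfsg.Agent.Lib.DihedralBlock.Average
import Cfsg.Agent.Lib.CharInt.Basic
import Cfsg.Agent.Lib.SmallCofactor.Basic

/-!
# Small signed degrees

If an element `y ≠ 1` of odd order centralises two commuting involutions of a simple group with
dihedral Sylow 2-subgroups, no nontrivial character of the principal 2-block has signed degree
`-7`, `-3` or `5`: the mean over the four group gives the eigenvalues of `y`, whose product is 1.
-/

set_option autoImplicit false
set_option linter.style.haveILetI false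
set_option linter.unusedSectionVars false

namespace Cfsg.Agent.GW.BigCentral

open Subgroup Cfsg

universe u

/-- Finite multisets of numbers with the same power sums are equal. -/
theorem multiset_eq_of_powerSums {A B : Multiset ℂ}
    (h : ∀ k : ℕ, (A.map fun z => z ^ k).sum = (B.map fun z => z ^ k).sum) : A = B := by
  classical
  have hP : ∀ P : Polynomial ℂ, (A.map fun z => P.eval z).sum = (B.map fun z => P.eval z).sum := by
    intro P
    induction P using Polynomial.induction_on' with
    | add p q hp hq => simp only [Polynomial.eval_add, Multiset.sum_map_add, hp, hq]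
    | monomial n c => simp only [Polynomial.eval_monomial, Multiset.sum_map_mul_left, h n]
  refine Multiset.ext.2 fun a => ?_
  set T := ((A + B).toFinset).erase a
  set P : Polynomial ℂ := ∏ z ∈ T, (Polynomial.X - Polynomial.C z) with hPdef
  have hP0 : P.eval a ≠ 0 := by
    rw [hPdef, Polynomial.eval_prod, Finset.prod_ne_zero_iff]
    intro z hz
    simpa [sub_eq_zero] using (Finset.ne_of_mem_erase hz).symm
  have key : ∀ C : Multiset ℂ, (∀ z ∈ C, z ∈ A + B) →
      (C.map fun z => P.eval z).sum = (C.count a : ℂ) * P.eval a := by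
    intro C hC
    rw [Multiset.map_congr rfl (g := fun z => if z = a then P.eval a else 0) fun z hz => ?_]
    · induction C using Multiset.induction_on with
      | empty => simp
      | cons z C ih =>
        rw [Multiset.map_cons, Multiset.sum_cons, ih fun w hw => hC w (Multiset.mem_cons_of_mem hw)]
        by_cases hza : z = a
        · subst hza; rw [if_pos rfl, Multiset.count_cons_self]; push_cast; ring
        · rw [if_neg hza, zero_add, Multiset.count_cons_of_ne (Ne.symm hza)]
    · split_ifs with hza
      · rw [hza]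
      · rw [hPdef, Polynomial.eval_prod]
        exact Finset.prod_eq_zero (Finset.mem_erase.2 ⟨hza, Multiset.mem_toFinset.2 (hC z hz)⟩)
          (by simp)
  have := hP P
  rw [key A fun z hz => Multiset.mem_add.2 (Or.inl hz), key B fun z hz => Multiset.mem_add.2 (Or.inr hz)] at this
  exact_mod_cast mul_right_cancel₀ hP0 this

variable {G : Type u} [Group G] [Finite G]

/-- A multiplicative character of a simple nonabelian group is trivial. -/
theorem hom_eq_one [IsSimpleGroup G] (hG : ¬ IsMulCommutative G) (φ : G →* ℂ) (g : G) : φ g = 1 := by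
  rcases (inferInstance : φ.ker.Normal).eq_bot_or_eq_top with h | h
  · refine absurd (isMulCommutative_iff.2 fun a b => ?_) hG
    refine (φ.ker_eq_bot_iff).1 h ?_
    rw [map_mul, map_mul, mul_comm]
  · exact MonoidHom.mem_ker.1 (h ▸ Subgroup.mem_top g)

/-- Eigenvalues with product 1 in a simple nonabelian group. -/
theorem exists_roots_prod [IsSimpleGroup G] (hG : ¬ IsMulCommutative G) {χ : G → ℂ}
    (h : IsCharacter G χ) (g : G) :
    ∃ A : Multiset ℂ, χ 1 = (Multiset.card A : ℂ) ∧ A.prod = 1 ∧
      ∀ k : ℕ, χ (g ^ k) = (A.map fun z => z ^ k).sum := by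
  obtain ⟨n, ρ, rfl⟩ := h
  obtain ⟨b, μ, -, hμ⟩ := CharInt.exists_eigenbasis_rho ρ g
  refine ⟨Finset.univ.val.map μ, ?_, ?_, fun k => ?_⟩
  · rw [Representation.char_one, Multiset.card_map]
    simp
  · rw [← Finset.prod_eq_multiset_prod, ← CharInt.det_of_eigenbasis b hμ]
    exact hom_eq_one hG (LinearMap.det.comp ρ) g
  · rw [Multiset.map_map, Representation.character, map_pow,
      CharInt.trace_of_eigenbasis b (CharInt.pow_apply_eigenvector b hμ k)]
    rfl

/-- An element of odd order whose fourth power is 1. -/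
theorem eq_one_of_pow_four {z : ℂ} {m : ℕ} (hm : Odd m) (h1 : z ^ m = 1) (h4 : z ^ 4 = 1) : z = 1 := by
  have h : z ^ Nat.gcd m 4 = 1 := pow_gcd_eq_one.2 ⟨h1, h4⟩
  rwa [show Nat.gcd m 4 = 1 from (Nat.coprime_two_right.2 hm).pow_right 2, pow_one] at h

variable {S : Sylow 2 G} {t : G}

/-- The mean over a four group of a character, on a subgroup centralising it. -/
theorem isCharacter_four {χ : G → ℂ} (hχ : IsCharacter G χ) {a b : G} (h : Pair a b)
    (H : Subgroup G) (hHa : ∀ z ∈ H, Commute a z) (hHb : ∀ z ∈ H, Commute b z) :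
    IsCharacter H fun z =>
      (χ (z : G) + χ (a * z) + χ (b * z) + χ (a * b * z)) / 4 := by
  classical
  haveI : Fintype h.four := Fintype.ofFinite _
  have hf := DihedralBlock.Seven.isCharacter_average hχ h.four.subtype H.subtype (by
    rintro ⟨x, hx⟩ ⟨z, hz⟩
    rcases hx with rfl | rfl | rfl | rfl
    · exact Commute.one_left _
    · exact hHa z hz
    · exact hHb z hz
    · exact (hHa z hz).mul_left (hHb z hz))
  have hne : a ≠ 1 ∧ b ≠ 1 ∧ a * b ≠ 1 :=
    ⟨BSW.ne_one_of_order h.ha, BSW.ne_one_of_order h.hb, BSW.ne_one_of_order h.order_mul⟩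
  have hsum : ∀ F : G → ℂ, ∑ x : h.four, F x = F 1 + F a + F b + F (a * b) := by
    intro F
    rw [← Finset.sum_subtype ({1, a, b, a * b} : Finset G) (fun x => by
      simp [h.mem_four]) F, Finset.sum_insert (by simp [hne.1.symm, hne.2.1.symm, Ne.symm hne.2.2]),
      Finset.sum_insert (by simp [h.ne, h.mul_ne.symm]),
      Finset.sum_insert (by simp [h.mul_ne_right.symm]), Finset.sum_singleton]
    ring
  have h4 : Nat.card h.four = 4 := by
    have := hsum fun _ => 1
    rw [Finset.sum_const, Finset.card_univ, nsmul_eq_mul, mul_one] at this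
    norm_num at this
    rw [Nat.card_eq_fintype_card]
    exact_mod_cast this
  have heq : (fun z : H => (χ (z : G) + χ (a * z) + χ (b * z) + χ (a * b * z)) / 4) =
      fun z : H => (Nat.card h.four : ℂ)⁻¹ *
        ∑ x : h.four, χ (h.four.subtype x * H.subtype z) := by
    funext z
    simp only [Subgroup.coe_subtype]
    rw [hsum fun x => χ (x * (z : G)), h4, one_mul]
    push_cast
    ring
  rw [heq]
  exact hf

/-- A character of the principal block is constant on `u z`, `z` of odd order centralising the
involution `u`. -/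
theorem apply_invol_mul (hyp : Hyp S t) {I : Ideal AlgInt} (hI : IsPModular 2 I) {χ : IrrCharacter G}
    (hχ : χ ∈ principalBlock I G) {u z : G} (hu : orderOf u = 2) (huz : Commute u z)
    (hz : Odd (orderOf z)) : χ.1 (u * z) = χ.1 t := by
  obtain ⟨g, hg⟩ := isConj_iff.1 (hyp.isConj_t hu)
  rw [DihedralBlock.Seven.apply_mul_of_complement hI ⟨1, by rw [hu, pow_one]⟩ (N := oCore u)
    (fun v => (hyp.mem_oCore_iff hu).trans
      (and_congr_left' ⟨fun hv => (BSW.mem_cent.1 hv).symm, fun hv => BSW.mem_cent.2 hv.symm⟩))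
    hχ ((hyp.mem_oCore_iff hu).2 ⟨BSW.mem_cent.2 huz.symm, hz⟩), ← hg,
    Char.IsCharacter.isClassFunction (Char.irr_isCharacter χ) u g]

/-- No signed degree `-3`, `5` or `-7`. -/
theorem degree_ne_small (hyp : Hyp S t) {I : Ideal AlgInt} (hI : IsPModular 2 I) {χ : IrrCharacter G}
    (hχ : χ ∈ principalBlock I G) (hne : χ ≠ Char.trivialChar G) {a b y : G} (h : Pair a b)
    (hya : Commute y a) (hyb : Commute y b) (ho : Odd (orderOf y)) (hy1 : y ≠ 1) :
    ¬ (charDegree χ.1 = 3 ∧ χ.1 t = -1 ∨ charDegree χ.1 = 5 ∧ χ.1 t = 1 ∨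
      charDegree χ.1 = 7 ∧ χ.1 t = -1) := by
  intro hcase
  haveI := hyp.simple
  have hG := hyp.not_comm
  have hc := Char.irr_isCharacter χ
  have hval : ∀ u : G, orderOf u = 2 → ∀ z : G, Commute u z → Odd (orderOf z) →
      χ.1 (u * z) = χ.1 t := fun u hu z huz hz => apply_invol_mul hyp hI hχ hu huz hz
  have hψ := isCharacter_four hc h (zpowers y)
    (fun z hz => by obtain ⟨k, rfl⟩ := hz; exact hya.symm.zpow_right k)
    (fun z hz => by obtain ⟨k, rfl⟩ := hz; exact hyb.symm.zpow_right k)
  obtain ⟨n, ν, hn, hν, hpow⟩ := CharInt.exists_roots hψ (⟨y, mem_zpowers y⟩ : zpowers y)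
  rw [Subgroup.orderOf_mk] at hν
  have hcard : 4 * (n : ℂ) = (charDegree χ.1 : ℂ) + 3 * χ.1 t := by
    rw [← hn, Char.charDegree_cast, Subgroup.coe_one, mul_one, mul_one, mul_one]
    have e : ∀ u : G, orderOf u = 2 → χ.1 u = χ.1 t := fun u hu => by
      rw [← mul_one u, hval u hu 1 (Commute.one_right u) (by rw [orderOf_one]; exact odd_one)]
    rw [e a h.ha, e b h.hb, e (a * b) h.order_mul]
    ring
  obtain ⟨A, hA, hAprod, hApow⟩ := exists_roots_prod hG hc y
  set B : Multiset ℂ := Finset.univ.val.map ν with hB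
  have hsum : ∀ k : ℕ, (A.map fun z => z ^ k).sum + 3 * χ.1 t = 4 * (B.map fun z => z ^ k).sum := by
    intro k
    have hyk : Odd (orderOf (y ^ k)) := ho.of_dvd_nat (orderOf_pow_dvd k)
    have := hpow k
    rw [SubgroupClass.coe_pow, hval a h.ha _ (hya.symm.pow_right k) hyk,
      hval b h.hb _ (hyb.symm.pow_right k) hyk,
      hval _ h.order_mul _ ((hya.mul_right hyb).symm.pow_right k) hyk, hApow k] at this
    rw [hB, Multiset.map_map]
    change _ = 4 * ∑ i, ν i ^ k
    linear_combination 4 * this
  have hB1 : ∀ z ∈ B, z ^ orderOf y = 1 := by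
    intro z hz
    obtain ⟨i, -, rfl⟩ := Multiset.mem_map.1 hz
    exact hν i
  have hBcard : Multiset.card B = n := by simp [hB]
  -- all eigenvalues of `y` are 1
  suffices hA1 : ∀ z ∈ A, z = 1 by
    refine hy1 (SmallCofactor.eq_one_of_apply_eq hG hne ?_)
    have := hApow 1
    rw [pow_one] at this
    rw [this, hA, Multiset.map_congr rfl (g := fun _ => (1 : ℂ)) fun z hz => by rw [hA1 z hz, one_pow],
      Multiset.map_const', Multiset.sum_replicate, nsmul_one]
  have hrep : ∀ k : ℕ, ((Multiset.replicate 3 (1 : ℂ)).map fun z => z ^ k).sum = 3 := by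
    intro k; simp; norm_num
  have hfour : ∀ k : ℕ, ((4 • B).map fun z => z ^ k).sum = 4 * (B.map fun z => z ^ k).sum := by
    intro k; rw [Multiset.map_nsmul, Multiset.sum_nsmul, nsmul_eq_mul]; norm_num
  have key : B.prod ^ 4 = 1 ∧ (∀ z ∈ A, z = 1 ∨ z ∈ B) ∧ (charDegree χ.1 = 5 → (1 : ℂ) ∈ B) := by
    by_cases hs : χ.1 t = -1
    · have heq : A = 4 • B + Multiset.replicate 3 1 := multiset_eq_of_powerSums fun k => by
        rw [Multiset.map_add, Multiset.sum_add, hrep, hfour]
        linear_combination hsum k - 3 * hs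
      refine ⟨?_, fun z hz => ?_, fun h5 => ?_⟩
      · rw [heq, Multiset.prod_add, Multiset.prod_nsmul] at hAprod
        simpa using hAprod
      · rw [heq, Multiset.mem_add] at hz
        rcases hz with hz | hz
        · exact Or.inr (Multiset.mem_nsmul.1 hz).2
        · exact Or.inl (Multiset.eq_of_mem_replicate hz)
      · rcases hcase with ⟨h', -⟩ | ⟨-, h'⟩ | ⟨h', -⟩
        · omega
        · rw [hs] at h'; norm_num at h'
        · omega
    · have hs1 : χ.1 t = 1 := by
        rcases hcase with ⟨-, h'⟩ | ⟨-, h'⟩ | ⟨-, h'⟩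
        · exact absurd h' hs
        · exact h'
        · exact absurd h' hs
      have heq : A + Multiset.replicate 3 1 = 4 • B := multiset_eq_of_powerSums fun k => by
        rw [Multiset.map_add, Multiset.sum_add, hrep, hfour]
        linear_combination hsum k - 3 * hs1
      refine ⟨?_, fun z hz => ?_, fun _ => ?_⟩
      · rw [← Multiset.prod_nsmul, ← heq, Multiset.prod_add, hAprod]
        simp
      · exact Or.inr (Multiset.mem_nsmul.1 (heq ▸ Multiset.mem_add.2 (Or.inl hz))).2
      · exact (Multiset.mem_nsmul.1 (heq ▸ Multiset.mem_add.2 (Or.inr (Multiset.mem_replicate.2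
          ⟨by norm_num, rfl⟩)))).2
  obtain ⟨hprod, hmem, hone⟩ := key
  have hB1' : ∀ z ∈ B, z = 1 := by
    rcases hcase with ⟨h', hs⟩ | ⟨h', hs⟩ | ⟨h', hs⟩ <;> rw [h', hs] at hcard
    · have : n = 0 := by exact_mod_cast (show (n : ℂ) = 0 by linear_combination hcard / 4)
      intro z hz
      rw [this, Multiset.card_eq_zero] at hBcard
      rw [hBcard] at hz
      exact absurd hz (Multiset.notMem_zero z)
    · have : n = 2 := by exact_mod_cast (show (n : ℂ) = 2 by linear_combination hcard / 4)
      obtain ⟨C, hC⟩ := Multiset.exists_cons_of_mem (hone h')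
      rw [hC, Multiset.card_cons, this] at hBcard
      obtain ⟨w, rfl⟩ := Multiset.card_eq_one.1 (show Multiset.card C = 1 by omega)
      rw [hC, Multiset.prod_cons, Multiset.prod_singleton, one_mul] at hprod
      have hw := eq_one_of_pow_four ho (hB1 w (by rw [hC]; simp)) hprod
      intro z hz
      rw [hC, hw] at hz
      simpa using hz
    · have : n = 1 := by exact_mod_cast (show (n : ℂ) = 1 by linear_combination hcard / 4)
      obtain ⟨w, hw⟩ := Multiset.card_eq_one.1 (hBcard.trans this)
      rw [hw, Multiset.prod_singleton] at hprod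
      have hw1 := eq_one_of_pow_four ho (hB1 w (by rw [hw]; simp)) hprod
      intro z hz
      rw [hw, hw1] at hz
      simpa using hz
  exact fun z hz => (hmem z hz).elim id (hB1' z)

end Cfsg.Agent.GW.BigCentral
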