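import Cfsg.Agent.Lib.GW.Basic
import Cfsg.Agent.Lib.DihedralBlock.SignedDegrees
import Cfsg.Agent.Lib.ZStar.Assemble

/-!
# Maximal subgroups containing the centraliser of an involution: common tools

* centralisers inside a subgroup containing them;
* the data of a dihedral block for a subgroup containing the Sylow subgroup;
* the order formula with an integer signed degree.
-/

set_option autoImplicit false
set_option linter.style.haveILetI false
set_option linter.unusedSectionVars false

namespace Cfsg.Agent.GW.BigCentral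

open Subgroup Cfsg

universe u

variable {G : Type u} [Group G]

/-- The centraliser of a set inside a subgroup containing it. -/
theorem card_centralizer_subtype {M : Subgroup G} (s : Set M)
    (h : centralizer (Subtype.val '' s) ≤ M) :
    Nat.card (centralizer s : Subgroup M) = Nat.card (centralizer (Subtype.val '' s) : Subgroup G) := by
  have e : centralizer s = (centralizer (Subtype.val '' s)).subgroupOf M := by
    ext x
    rw [mem_subgroupOf, mem_centralizer_iff, mem_centralizer_iff]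
    constructor
    · rintro hx _ ⟨y, hy, rfl⟩
      exact congrArg Subtype.val (hx y hy)
    · exact fun hx y hy => Subtype.ext (hx _ ⟨y, hy, rfl⟩)
  rw [e, Nat.card_congr (subgroupOfEquivOfLe h).toEquiv]

theorem card_cent_subtype {M : Subgroup G} (x : M) (h : Cent (x : G) ≤ M) :
    Nat.card (centralizer ({x} : Set M)) = Nat.card (Cent (x : G)) := by
  have := card_centralizer_subtype ({x} : Set M) (by rwa [Set.image_singleton])
  rwa [Set.image_singleton] at this

theorem card_cent_pair_subtype {M : Subgroup G} (x y : M) (h : Cent (x : G) ≤ M) :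
    Nat.card (centralizer ({x, y} : Set M)) =
      Nat.card (centralizer ({(x : G), (y : G)} : Set G)) := by
  have := card_centralizer_subtype ({x, y} : Set M) (by
    rw [Set.image_pair]
    exact (centralizer_le (Set.singleton_subset_iff.2 (Set.mem_insert _ _))).trans h)
  rwa [Set.image_pair] at this

/-- The order formula with an integral signed degree. -/
theorem order_int_eq {X : Type u} [Group X] [Fintype X] {σ τ : X} {M₀ : ℕ}
    (d : DihedralBlock.Data σ τ M₀) {M : Ideal AlgInt} (hM : IsPModular 2 M) {χ : IrrCharacter X}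
    (hm : χ ∈ principalBlock M X) (hn : χ ≠ Char.trivialChar X) {δ : ℤ} (hδ : δ = 1 ∨ δ = -1)
    (hval : ∀ l : ℕ, 0 < l → l < 2 * M₀ → χ.1 (σ ^ l) = δ) {a : ℤ}
    (ha : a = δ * charDegree χ.1) :
      (Nat.card X : ℤ) * (a - 1) ^ 2 *
          ((Nat.card (centralizer ({σ ^ M₀, τ} : Set X)) : ℤ) *
            Nat.card (centralizer ({σ ^ M₀, σ * τ} : Set X))) ^ 2 =
        2 * (a * (a + 1)) * (Nat.card (centralizer ({σ ^ M₀} : Set X)) : ℤ) ^ 3 *
          ((Nat.card (centralizer ({σ ^ M₀, τ} : Set X)) : ℤ) +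
            Nat.card (centralizer ({σ ^ M₀, σ * τ} : Set X))) ^ 2 := by
  obtain ⟨-, hord⟩ := d.order_formula hM hm (fun e => hn (Subtype.ext e)) hδ hval
  set p := Nat.card (centralizer ({σ ^ M₀, τ} : Set X))
  set q := Nat.card (centralizer ({σ ^ M₀, σ * τ} : Set X))
  have hp : (p : ℂ) ≠ 0 := Nat.cast_ne_zero.2 Nat.card_pos.ne'
  have hq : (q : ℂ) ≠ 0 := Nat.cast_ne_zero.2 Nat.card_pos.ne'
  apply (Int.cast_injective (α := ℂ))
  have hA : (a : ℂ) = (δ : ℂ) * charDegree χ.1 := by rw [ha]; push_cast; rfl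
  have hd1 : (δ : ℂ) * δ = 1 := by rcases hδ with rfl | rfl <;> norm_num
  field_simp at hord
  push_cast
  rw [hA]
  linear_combination hord +
    (((Nat.card X : ℂ) * ((p : ℂ) * q) ^ 2 * ((charDegree χ.1 : ℂ) ^ 2 - 1)) -
      2 * (Nat.card (centralizer ({σ ^ M₀} : Set X)) : ℂ) ^ 3 * ((p : ℂ) + q) ^ 2 *
        (charDegree χ.1 : ℂ) ^ 2) * hd1

/-- The order formula with the signed degree `a` as an integer. -/
theorem exists_order_int {X : Type u} [Group X] [Fintype X] {σ τ : X} {M₀ : ℕ}
    (d : DihedralBlock.Data σ τ M₀) (P : Sylow 2 X) (hσ : σ ∈ (P : Subgroup X))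
    (hτ : τ ∈ (P : Subgroup X))
    (hform : ∀ x ∈ (P : Subgroup X), ∃ i : ℕ, x = σ ^ i ∨ x = σ ^ i * τ) :
    ∃ a : ℤ, (4 * M₀ : ℤ) ∣ a - 1 ∧ a ≠ 1 ∧
      (Nat.card X : ℤ) * (a - 1) ^ 2 *
          ((Nat.card (centralizer ({σ ^ M₀, τ} : Set X)) : ℤ) *
            Nat.card (centralizer ({σ ^ M₀, σ * τ} : Set X))) ^ 2 =
        2 * (a * (a + 1)) * (Nat.card (centralizer ({σ ^ M₀} : Set X)) : ℤ) ^ 3 *
          ((Nat.card (centralizer ({σ ^ M₀, τ} : Set X)) : ℤ) +
            Nat.card (centralizer ({σ ^ M₀, σ * τ} : Set X))) ^ 2 := by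
  obtain ⟨M, hM⟩ := ZStar.exists_isPModular_two
  obtain ⟨χ₁, χ₂, χ₃, δ₁, δ₂, δ₃, a, b, c, h1, h2, h3, m1, m2, m3, n1, n2, n3, n12, n13, n23, hval,
    ha, hb, hc, ha1, hrel, hca, hcb, hcc, heq⟩ := d.signed_degrees P hσ hτ hform hM
  exact ⟨a, hca, ha1, order_int_eq d hM m1 n1 h1 (fun l h0 hl => (hval l h0 hl).1) ha⟩

variable [Finite G] {S : Sylow 2 G} {t : G}

theorem sylow_le (hyp : Hyp S t) {M : Subgroup G} (hCM : Cent t ≤ M) : (S : Subgroup G) ≤ M :=
  hyp.sylow_le_cent.trans hCM

theorem t_mem (hyp : Hyp S t) {M : Subgroup G} (hCM : Cent t ≤ M) : t ∈ M :=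
  sylow_le hyp hCM hyp.memS

/-- Generators of `S` whose middle rotation is `t`. -/
theorem exists_rot (hyp : Hyp S t) {g : BSW.DihedralTI.Gens S t} :
    g.σ ^ 2 ^ g.k = t := by
  refine eq_of_invol_zpowers (pow_mem (mem_zpowers _) _) g.htσ ?_ hyp.orderT
  rw [orderOf_pow' _ (pow_ne_zero _ two_ne_zero), g.hord, g.hn,
    Nat.gcd_eq_right (pow_dvd_pow 2 (Nat.le_succ _)), pow_succ', Nat.mul_div_cancel _ (by positivity)]

theorem gens_closure (g : BSW.DihedralTI.Gens S t) :
    closure ({g.σ, g.τ} : Set G) = (S : Subgroup G) := by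
  refine le_antisymm ((closure_le _).2 ?_) fun x hx => ?_
  · rintro x (rfl | rfl)
    · exact g.hσ
    · exact g.hτ
  · obtain ⟨i, rfl | rfl⟩ := g.hform x hx
    · exact zpow_mem (Subgroup.subset_closure (Set.mem_insert _ _)) i
    · exact mul_mem (zpow_mem (Subgroup.subset_closure (Set.mem_insert _ _)) i)
        (Subgroup.subset_closure (Set.mem_insert_of_mem _ rfl))

/-- The same Sylow subgroup inside a subgroup containing it. -/
theorem subtype_closure (g : BSW.DihedralTI.Gens S t) {M : Subgroup G} (hSM : (S : Subgroup G) ≤ M) :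
    closure ({(⟨g.σ, hSM g.hσ⟩ : M), ⟨g.τ, hSM g.hτ⟩} : Set M) =
      ((S.subtype hSM : Sylow 2 M) : Subgroup M) := by
  apply map_injective M.subtype_injective
  rw [MonoidHom.map_closure, Set.image_pair, Sylow.coe_subtype, map_subgroupOf_eq_of_le hSM]
  exact gens_closure g

end Cfsg.Agent.GW.BigCentral
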